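import Groth.Agent.WDiv.K654.OrdMap
import Groth.Agent.WDiv.K654.FfTrans
import Groth.Agent.Flat2D.FiberStalk
import Groth.Agent.Sga5.H839.DimLim
import Groth.Agent.S1628

/-!
# Orders of rational functions under smooth morphisms
-/

set_option autoImplicit false
universe u

open CategoryTheory AlgebraicGeometry TopologicalSpace IsLocalRing

namespace K569.OrdSmooth

theorem isDVR_of_coheight {X : Scheme.{u}} [IsIntegral X] [IsLocallyNoetherian X] (x : X)
    (hX : IsIntegrallyClosed (X.presheaf.stalk x)) (hx : Order.coheight x = 1) :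
    IsDiscreteValuationRing (X.presheaf.stalk x) := by
  have h1 := ringKrullDim_stalk_eq_coheight x
  rw [hx] at h1
  have hfield : ¬ IsField (X.presheaf.stalk x) := by
    intro hF
    rw [ringKrullDim_eq_zero_of_isField hF] at h1
    exact absurd h1 (by decide)
  have h2 : Ring.KrullDimLE 1 (X.presheaf.stalk x) := krullDimLE_of_coheight_le hx.le
  have h3 : IsDiscreteValuationRing (X.presheaf.stalk x) ↔
      (IsIntegrallyClosed (X.presheaf.stalk x) ∧
        ∃! P : Ideal (X.presheaf.stalk x), P ≠ ⊥ ∧ P.IsPrime) :=
    (IsDiscreteValuationRing.TFAE (X.presheaf.stalk x) hfield).out 0 3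
  refine h3.mpr ⟨hX, maximalIdeal _, ⟨?_, inferInstance⟩, ?_⟩
  · intro hbot
    exact hfield (isField_iff_maximalIdeal_eq.mpr hbot)
  · rintro P ⟨hP0, hP⟩
    exact IsLocalRing.eq_maximalIdeal (Ring.krullDimLE_one_iff_of_noZeroDivisors.mp h2 P hP0 hP)

theorem eq_genericPoint_of_coheight {X : Scheme.{u}} [IsIntegral X] (x : X)
    (hx : Order.coheight x = 0) : x = genericPoint X := by
  rw [Order.coheight_eq_zero] at hx
  have h1 : genericPoint X ⤳ x := genericPoint_specializes x
  have h2 : x ≤ genericPoint X := h1
  have h3 : genericPoint X ≤ x := hx h2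
  have h4 : x ⤳ genericPoint X := h3
  exact (h4.antisymm h1).eq

/-- An ideal of a DVR, proper, nonzero and radical, is the maximal ideal. -/
theorem eq_maximalIdeal_of_isRadical {R : Type u} [CommRing R] [IsDomain R]
    [IsDiscreteValuationRing R] (I : Ideal R) (h0 : I ≠ ⊥) (h1 : I ≠ ⊤) (hr : I.IsRadical) :
    I = maximalIdeal R := by
  obtain ⟨n, hn⟩ := IsDiscreteValuationRing.ideal_eq_span_pow_irreducible h0
    (IsDiscreteValuationRing.exists_irreducible R).choose_spec
  apply le_antisymm (le_maximalIdeal h1)
  rw [(IsDiscreteValuationRing.exists_irreducible R).choose_spec.maximalIdeal_eq,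
    Ideal.span_singleton_le_iff_mem]
  exact hr ⟨n, hn ▸ Ideal.mem_span_singleton_self _⟩

theorem map_maximalIdeal {X Y : Scheme.{u}} (f : Y ⟶ X) [Smooth f] (y : Y) [IsIntegral X]
    [IsIntegral Y] (hf : f (genericPoint Y) = genericPoint X)
    [IsDiscreteValuationRing (X.presheaf.stalk (f y))]
    [IsDiscreteValuationRing (Y.presheaf.stalk y)] :
    (maximalIdeal (X.presheaf.stalk (f y))).map (f.stalkMap y).hom =
      maximalIdeal (Y.presheaf.stalk y) := by
  apply eq_maximalIdeal_of_isRadical
  · intro h
    have hinj : Function.Injective (f.stalkMap y).hom := by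
      have h2 : Function.Injective ((Y.presheaf.stalkSpecializes
          (genericPoint_specializes y)).hom.comp (f.stalkMap y).hom) := by
        have h3 := congrArg CommRingCat.Hom.hom (K654.OrdMap.ff_comp f hf y)
        rw [CommRingCat.hom_comp, CommRingCat.hom_comp] at h3
        rw [← h3]
        refine (K654.OrdMap.ff_injective f hf).comp ?_
        exact IsFractionRing.injective (X.presheaf.stalk (f y)) X.functionField
      exact Function.Injective.of_comp h2
    have h4 : maximalIdeal (X.presheaf.stalk (f y)) = ⊥ := by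
      rw [eq_bot_iff]
      intro a ha
      have h5 : (f.stalkMap y).hom a ∈ (⊥ : Ideal (Y.presheaf.stalk y)) :=
        h ▸ Ideal.mem_map_of_mem _ ha
      exact hinj (h5.trans (map_zero _).symm)
    exact IsDiscreteValuationRing.not_a_field _ h4
  · intro h
    have h2 : (maximalIdeal (X.presheaf.stalk (f y))).map (f.stalkMap y).hom ≤
        maximalIdeal (Y.presheaf.stalk y) := by
      rw [Ideal.map_le_iff_le_comap]
      intro a ha
      exact (mem_maximalIdeal _).mpr (map_mem_nonunits_iff (f.stalkMap y).hom a |>.mpr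
        ((mem_maximalIdeal _).mp ha))
    rw [h] at h2
    exact (maximalIdeal.isMaximal _).ne_top (top_le_iff.mp h2)
  · obtain ⟨e⟩ := Groth.Agent.Flat2D.FiberStalk.nonempty_asFiber_stalkEquiv' f y
    have hsm : Smooth (f.fiberToSpecResidueField (f y)) :=
      MorphismProperty.pullback_snd (P := @Smooth) _ _ inferInstance
    have hr : _root_.IsReduced ((f.fiber (f y)).presheaf.stalk (f.asFiber y)) :=
      Groth.Agent.S1628.isReduced_stalk_of_smooth (k := X.residueField (f y))
        (f.fiberToSpecResidueField (f y)) (f.asFiber y)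
    have hr2 := isReduced_of_injective e e.injective
    exact (Ideal.isRadical_iff_quotient_reduced _).mpr hr2

theorem ord_ff_of_smooth {X Y : Scheme.{u}} [IsIntegral X] [IsIntegral Y] [IsLocallyNoetherian X]
    [IsLocallyNoetherian Y] (hX : ∀ x : X, IsIntegrallyClosed (X.presheaf.stalk x))
    (hY : ∀ y : Y, IsIntegrallyClosed (Y.presheaf.stalk y))
    (f : Y ⟶ X) [Smooth f] (hf : f (genericPoint Y) = genericPoint X) (g : X.functionField)
    (hg : g ≠ 0) (y : Y) (hy : Order.coheight y = 1) :
    Scheme.ord ((K654.OrdMap.ff f hf).hom g) y = Scheme.ord g (f y) := by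
  have hle : Order.coheight (f y) ≤ 1 := by
    rw [← hy]
    exact Groth.Agent.Sga5.H839.DimLim.coheight_apply_le f (Flat.generalizingMap f) y
  rcases (show Order.coheight (f y) = 0 ∨ Order.coheight (f y) = 1 by
    rcases lt_or_eq_of_le hle with h | h
    · exact Or.inl (Order.lt_one_iff.mp h)
    · exact Or.inr h) with h | h
  · rw [K654.FfTrans.ord_ff_of_generic f hf y (eq_genericPoint_of_coheight _ h) g hg,
      Scheme.ord_eq_zero_of_coheight_neq_one (by rw [h]; exact zero_ne_one)]
  · have := isDVR_of_coheight (f y) (hX _) h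
    have := isDVR_of_coheight y (hY _) hy
    exact K654.OrdMap.ord_ff_of_unramified f hf y h hy (map_maximalIdeal f y hf) g

end K569.OrdSmooth
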